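import Mathlib.Algebra.Module.Projective
import Mathlib.LinearAlgebra.Finsupp.LinearCombination
import Mathlib.RingTheory.Noetherian.Basic
import Mathlib.RingTheory.Finiteness.Quotient
import Mathlib.RingTheory.Ideal.Quotient.Operations
import Mathlib.RingTheory.Jacobson.Ideal
import Mathlib.LinearAlgebra.Dual.Defs

set_option autoImplicit false
universe u v

namespace Groth.Agent.Bass3

variable {R : Type u} [CommRing R]

/-- Infinite rank at every maximal ideal, in residual form. -/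
def InfRank (R : Type u) [CommRing R] (P : Type v) [AddCommGroup P] [Module R P] : Prop :=
  ∀ m : Ideal R, m.IsMaximal → ∀ L : Submodule R P, L.FG → L ⊔ m • (⊤ : Submodule R P) ≠ ⊤

lemma isNoetherian_quotient (J : Ideal R) [IsNoetherianRing (R ⧸ J)] : IsNoetherian R (R ⧸ J) := by
  refine ⟨fun T => ?_⟩
  let T' : Ideal (R ⧸ J) :=
    { T.toAddSubmonoid with
      smul_mem' := fun c x hx => by
        obtain ⟨r, rfl⟩ := Ideal.Quotient.mk_surjective c
        rw [← Ideal.Quotient.algebraMap_eq, algebraMap_smul]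
        exact T.smul_mem r hx }
  have hT : T'.restrictScalars R = T := SetLike.ext fun _ => Iff.rfl
  rw [← hT]
  exact Submodule.FG.restrictScalars_iff.mpr (IsNoetherian.noetherian T')

variable {P : Type v} [AddCommGroup P] [Module R P]

lemma eq_top_of_sup_jacobson {K : Ideal R} (h : K ⊔ (⊥ : Ideal R).jacobson = ⊤) : K = ⊤ := by
  by_contra hne
  obtain ⟨m, hm, hle⟩ := Ideal.exists_le_maximal K hne
  refine hm.ne_top (top_le_iff.mp (h ▸ sup_le hle ?_))
  exact sInf_le ⟨bot_le, hm⟩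

lemma exists_unimodular [IsNoetherianRing (R ⧸ (⊥ : Ideal R).jacobson)] [Module.Projective R P]
    (hP : InfRank R P) (s : P) (M : Submodule R P) (hM : Submodule.span R {s} ⊔ M = ⊤) :
    ∃ m ∈ M, ∃ φ : P →ₗ[R] R, φ (s + m) = 1 := by
  classical
  set J := (⊥ : Ideal R).jacobson with hJ
  have : IsNoetherian R (R ⧸ J) := isNoetherian_quotient J
  obtain ⟨i, hi⟩ := Module.projective_def'.mp ‹Module.Projective R P›
  have hπ : ∀ z : P, Finsupp.linearCombination R id (i z) = z := fun z => LinearMap.congr_fun hi z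
  let O : P → Ideal R := fun x => LinearMap.range (Module.Dual.eval R P x)
  have hcoord : ∀ (z : P) (a : P), i z a ∈ O z := fun z a => ⟨(Finsupp.lapply a).comp i, rfl⟩
  let 𝒮 : Set (Ideal (R ⧸ J)) := {I | ∃ m ∈ M, I = (O (s + m)).map (Ideal.Quotient.mk J)}
  obtain ⟨_, ⟨m₀, hm₀, rfl⟩, hmax⟩ := set_has_maximal_iff_noetherian.mpr ‹IsNoetherianRing (R ⧸ J)›
    𝒮 ⟨_, 0, M.zero_mem, rfl⟩
  suffices O (s + m₀) = ⊤ by
    obtain ⟨φ, hφ⟩ := this.ge (Submodule.mem_top : (1 : R) ∈ _)
    exact ⟨m₀, hm₀, φ, hφ⟩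
  refine eq_top_of_sup_jacobson (hJ ▸ ?_)
  by_contra hne
  obtain ⟨m', hm', hle⟩ := Ideal.exists_le_maximal _ hne
  have hJm : J ≤ m' := le_sup_right.trans hle
  set x := s + m₀
  let A := (i x).support
  let ρ : M →ₗ[R] (A → R ⧸ J) :=
    LinearMap.pi fun a => J.mkQ ∘ₗ Finsupp.lapply (a : P) ∘ₗ i ∘ₗ M.subtype
  obtain ⟨k, f, hf⟩ := Module.Finite.exists_fin' R (LinearMap.range ρ)
  obtain ⟨g, hg⟩ := Module.projective_lifting_property ρ.rangeRestrict f ρ.surjective_rangeRestrict
  let L : Submodule R P := Submodule.span R {s} ⊔ LinearMap.range (M.subtype ∘ₗ g)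
  have hL : L.FG := (Submodule.fg_span_singleton s).sup
    (LinearMap.range_eq_map (M.subtype ∘ₗ g) ▸ Module.Finite.fg_top.map _)
  obtain ⟨y, hyK, a, ha⟩ : ∃ y : M, ρ y = 0 ∧ ∃ a, i (y : P) a ∉ m' := by
    by_contra hcon
    push Not at hcon
    refine hP m' hm' L hL (eq_top_iff.mpr (hM.ge.trans (sup_le (le_sup_left.trans le_sup_left) ?_)))
    intro z hz
    obtain ⟨v, hv⟩ := hf ⟨ρ ⟨z, hz⟩, ⟨z, hz⟩, rfl⟩
    have h0 : ρ (⟨z, hz⟩ - g v) = 0 := by
      have := congrArg Subtype.val ((LinearMap.congr_fun hg v).trans hv)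
      simp only [LinearMap.comp_apply] at this
      rw [map_sub, sub_eq_zero]
      exact this.symm
    have hsum : z = (M.subtype ∘ₗ g) v + ((⟨z, hz⟩ - g v : M) : P) := by simp
    rw [hsum]
    refine add_mem (Submodule.mem_sup_left (Submodule.mem_sup_right ⟨v, rfl⟩))
      (Submodule.mem_sup_right ?_)
    rw [← hπ ((⟨z, hz⟩ - g v : M) : P), Finsupp.linearCombination_apply]
    exact Submodule.sum_mem _ fun b _ =>
      Submodule.smul_mem_smul (hcon _ h0 b) Submodule.mem_top
  have hy : ∀ b ∈ A, i (y : P) b ∈ J := fun b hb =>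
    (Submodule.Quotient.mk_eq_zero J).mp (congrFun hyK ⟨b, hb⟩)
  have haA : a ∉ A := fun h => ha (hJm (hy a h))
  have hxa : i x a = 0 := Finsupp.notMem_support_iff.mp haA
  have hle1 : O x ⊔ J ≤ O (x + y) ⊔ J := by
    refine sup_le ?_ le_sup_right
    rintro _ ⟨φ, rfl⟩
    show φ x ∈ _
    have hφx : φ x = ∑ b ∈ A, i x b * φ b := by
      have := congrArg φ (hπ x).symm
      rw [Finsupp.linearCombination_apply, map_finsuppSum] at this
      simpa [Finsupp.sum] using this
    rw [hφx]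
    refine Submodule.sum_mem _ fun b hb => ?_
    refine Ideal.mul_mem_right _ _ ?_
    have : i x b = i (x + y) b - i (y : P) b := by simp
    rw [this]
    exact sub_mem (Submodule.mem_sup_left (hcoord _ b)) (Submodule.mem_sup_right (hy b hb))
  have hnew : i (y : P) a ∈ O (x + y) ⊔ J := by
    have : i (y : P) a = i (x + y) a := by simp [hxa]
    rw [this]
    exact Submodule.mem_sup_left (hcoord _ a)
  refine hmax ((O (x + y)).map (Ideal.Quotient.mk J))
    ⟨m₀ + y, add_mem hm₀ y.2, by rw [← add_assoc]⟩ (lt_of_le_not_ge ?_ ?_)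
  · rw [Ideal.map_le_iff_le_comap, Ideal.comap_map_of_surjective _ Ideal.Quotient.mk_surjective,
      ← RingHom.ker_eq_comap_bot, Ideal.mk_ker]
    exact le_sup_left.trans hle1
  · intro h
    rw [Ideal.map_le_iff_le_comap, Ideal.comap_map_of_surjective _ Ideal.Quotient.mk_surjective,
      ← RingHom.ker_eq_comap_bot, Ideal.mk_ker] at h
    exact ha (hle (sup_le h le_sup_right hnew))

end Groth.Agent.Bass3
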