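import Mathlib.Algebra.Module.StablyFree.Basic
import Mathlib.LinearAlgebra.Finsupp.SumProd
import Mathlib.LinearAlgebra.FreeModule.Finite.Basic
import Mathlib.SetTheory.Cardinal.Arithmetic
import Groth.Agent.Bass3.Unimodular

set_option autoImplicit false
universe u v w

namespace Groth.Agent.Bass3

variable {R : Type u} [CommRing R] {P : Type v} [AddCommGroup P] [Module R P]

lemma isCompl_of_section {K : Type w} [AddCommGroup K] [Module R K] (ρ : P →ₗ[R] K) (τ : K →ₗ[R] P)
    (h : ∀ c, ρ (τ c) = c) : IsCompl (LinearMap.range τ) (LinearMap.ker ρ) := by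
  constructor
  · rw [Submodule.disjoint_def]
    rintro _ ⟨c, rfl⟩ hc
    rw [LinearMap.mem_ker, h] at hc
    rw [hc, map_zero]
  · rw [codisjoint_iff, eq_top_iff]
    intro x _
    rw [← add_sub_cancel (τ (ρ x)) x]
    exact Submodule.add_mem_sup ⟨_, rfl⟩ (by rw [LinearMap.mem_ker, map_sub, h, sub_self])

/-- An element lies in a finite free direct summand, given by a retraction and a section. -/
def InFreeSummand (R : Type u) [CommRing R] {P : Type v} [AddCommGroup P] [Module R P] (s : P) :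
    Prop :=
  ∃ (n : ℕ) (ρ : P →ₗ[R] (Fin n → R)) (τ : (Fin n → R) →ₗ[R] P),
    (∀ c, ρ (τ c) = c) ∧ s ∈ LinearMap.range τ

lemma exists_finite_free_summand [Module.Projective R P] (s : P) :
    ∃ n : ℕ, InFreeSummand R ((0, s) : (Fin n → R) × P) := by
  classical
  obtain ⟨i, hi⟩ := Module.projective_def'.mp ‹Module.Projective R P›
  let A := (i s).support
  let e := A.equivFin.symm
  let θ : (Fin A.card → R) →ₗ[R] P := Fintype.linearCombination R fun k => (e k : P)
  let ι : P →ₗ[R] (Fin A.card → R) := LinearMap.pi fun k => Finsupp.lapply (e k : P) ∘ₗ i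
  have hs : θ (ι s) = s := by
    have := LinearMap.congr_fun hi s
    rw [LinearMap.comp_apply, Finsupp.linearCombination_apply, LinearMap.id_apply, Finsupp.sum,
      ← Finset.sum_coe_sort, ← e.sum_comp] at this
    simp only [θ, ι, Fintype.linearCombination_apply, LinearMap.pi_apply, LinearMap.comp_apply,
      Finsupp.lapply_apply]
    exact this
  refine ⟨A.card, A.card, LinearMap.fst R _ _ + ι ∘ₗ LinearMap.snd R _ _,
    (LinearMap.id - ι ∘ₗ θ).prod θ, fun c => by simp, ι s, ?_⟩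
  simp [hs]

namespace InfRank

variable {Q : Type w} [AddCommGroup Q] [Module R Q]

lemma prod_right (h : InfRank R Q) : InfRank R (P × Q) := by
  intro m hm L hL e
  refine h m hm (L.map (LinearMap.snd R P Q)) (hL.map _) ?_
  have hsnd : LinearMap.range (LinearMap.snd R P Q) = ⊤ :=
    LinearMap.range_eq_top.mpr Prod.snd_surjective
  have := congrArg (Submodule.map (LinearMap.snd R P Q)) e
  rwa [Submodule.map_sup, Submodule.map_smul'', Submodule.map_top, hsnd] at this

lemma ker_of_section (h : InfRank R P) {n : ℕ} (ρ : P →ₗ[R] (Fin n → R))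
    (τ : (Fin n → R) →ₗ[R] P) (hρτ : ∀ c, ρ (τ c) = c) : InfRank R (LinearMap.ker ρ) := by
  intro m hm L hL e
  refine h m hm (L.map (LinearMap.ker ρ).subtype ⊔ LinearMap.range τ)
    ((hL.map _).sup (LinearMap.range_eq_map τ ▸ Module.Finite.fg_top.map _)) ?_
  rw [eq_top_iff, ← (isCompl_of_section ρ τ hρτ).sup_eq_top, sup_comm (LinearMap.range τ)]
  refine sup_le ?_ (le_sup_right.trans le_sup_left)
  intro x hx
  have h2 := Submodule.mem_map_of_mem (f := (LinearMap.ker ρ).subtype)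
    (e.ge (Submodule.mem_top : (⟨x, hx⟩ : LinearMap.ker ρ) ∈ _))
  rw [Submodule.map_sup, Submodule.map_smul''] at h2
  obtain ⟨l, hl, w, hw, hlw⟩ := Submodule.mem_sup.mp h2
  rw [show x = l + w from hlw.symm]
  refine Submodule.add_mem_sup (Submodule.mem_sup_left hl) (Submodule.smul_mono le_rfl ?_ hw)
  exact le_of_le_of_eq le_top (by rw [← (isCompl_of_section ρ τ hρτ).sup_eq_top, sup_comm])

end InfRank

lemma descend_one [IsNoetherianRing (R ⧸ (⊥ : Ideal R).jacobson)] [Module.Projective R P]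
    (hP : InfRank R P) (s : P) (h : InFreeSummand R ((0, s) : R × P)) : InFreeSummand R s := by
  obtain ⟨n, ρ, τ, hρτ, c₀, hc₀⟩ := h
  let K' := LinearMap.ker ρ
  let q' : R × P →ₗ[R] K' := (LinearMap.id - τ ∘ₗ ρ).codRestrict K' fun x => by
    simp [K', LinearMap.mem_ker, hρτ]
  have : Module.Projective R K' := Module.Projective.of_split K'.subtype q'
    (LinearMap.ext fun x => Subtype.ext (by simp [q', LinearMap.mem_ker.mp x.2]))
  obtain ⟨_, ⟨p, rfl⟩, ψ, hψ⟩ := exists_unimodular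
    (InfRank.ker_of_section (InfRank.prod_right hP) ρ τ hρτ) (q' (1, 0))
    (LinearMap.range (q' ∘ₗ LinearMap.inr R R P)) (by
      rw [eq_top_iff]
      intro x _
      obtain ⟨⟨t, z⟩, rfl⟩ : ∃ w, q' w = x :=
        ⟨x, Subtype.ext (by simp [q', LinearMap.mem_ker.mp x.2])⟩
      rw [show ((t, z) : R × P) = t • (1, 0) + (0, z) by simp, map_add, map_smul]
      exact Submodule.add_mem_sup (Submodule.smul_mem _ _ (Submodule.subset_span rfl)) ⟨z, rfl⟩)
  have hψ' : ψ (q' (1, p)) = 1 := by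
    rw [show ((1, p) : R × P) = (1, 0) + (0, p) by simp, map_add]
    exact hψ
  refine ⟨n, ρ ∘ₗ LinearMap.inr R R P -
      (ψ ∘ₗ q' ∘ₗ LinearMap.inr R R P).smulRight (ρ (1, p)),
    LinearMap.snd R R P ∘ₗ τ - (LinearMap.fst R R P ∘ₗ τ).smulRight p, fun c => ?_, c₀, ?_⟩
  · have hq : q' (τ c) = 0 := Subtype.ext (by simp [q', hρτ])
    have hz : ((0, (τ c).2 - (τ c).1 • p) : R × P) = τ c - (τ c).1 • (1, p) := by
      ext <;> simp
    show ρ (0, (τ c).2 - (τ c).1 • p) - ψ (q' (0, (τ c).2 - (τ c).1 • p)) • ρ (1, p) = c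
    rw [hz]
    simp only [map_sub, map_smul, hq, hψ', hρτ, map_zero]
    simp
  · simp [hc₀]

lemma descend [IsNoetherianRing (R ⧸ (⊥ : Ideal R).jacobson)] [Module.Projective R P]
    (hP : InfRank R P) (s : P) :
    ∀ n, InFreeSummand R ((0, s) : (Fin n → R) × P) → InFreeSummand R s
  | 0, ⟨n, ρ, τ, hρτ, c₀, hc₀⟩ => ⟨n, ρ ∘ₗ LinearMap.inr R _ P, LinearMap.snd R _ P ∘ₗ τ,
      fun c => by
        have : ((0, (τ c).2) : (Fin 0 → R) × P) = τ c := Prod.ext (Subsingleton.elim _ _) rfl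
        show ρ (0, (τ c).2) = c
        rw [this, hρτ], c₀, by simp [hc₀]⟩
  | k + 1, ⟨n, ρ, τ, hρτ, c₀, hc₀⟩ => by
    let E : ((Fin (k + 1) → R) × P) ≃ₗ[R] (R × ((Fin k → R) × P)) :=
      (((Fin.consLinearEquiv R fun _ : Fin (k + 1) => R).symm).prodCongr (LinearEquiv.refl R P)).trans
        (LinearEquiv.prodAssoc R R (Fin k → R) P)
    have hE : E (0, s) = (0, (0, s)) := by
      simp [E]
      rfl
    exact descend hP s k (descend_one (InfRank.prod_right hP) (0, s)
      ⟨n, ρ ∘ₗ E.symm.toLinearMap, E.toLinearMap ∘ₗ τ, fun c => by simp [hρτ], c₀,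
        by rw [LinearMap.comp_apply, hc₀]; exact hE⟩)

lemma inFreeSummand [IsNoetherianRing (R ⧸ (⊥ : Ideal R).jacobson)] [Module.Projective R P]
    (hP : InfRank R P) (s : P) : InFreeSummand R s :=
  let ⟨n, hn⟩ := exists_finite_free_summand s
  descend hP s n hn

lemma swindle {Q : Type w} [AddCommGroup Q] [Module R Q] {ι : Type*} [Infinite ι]
    (e : (P × Q) ≃ₗ[R] (ι →₀ R)) : Nonempty ((P × (ι →₀ R)) ≃ₗ[R] (ι →₀ R)) := by
  have hι : Nonempty (ℕ × ι ≃ ι) := by
    rw [← Cardinal.lift_mk_eq']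
    simp [Cardinal.mk_prod, Cardinal.aleph0_mul_eq (Cardinal.aleph0_le_mk ι)]
  let eF : (ι →₀ R) ≃ₗ[R] (ℕ →₀ P) × (ℕ →₀ Q) :=
    ((Finsupp.domLCongr hι.some.symm).trans (Finsupp.finsuppProdLEquiv R)).trans
      ((Finsupp.mapRange.linearEquiv e.symm).trans
        { toFun := fun f => (f.mapRange Prod.fst rfl, f.mapRange Prod.snd rfl)
          invFun := fun f => Finsupp.zipWith Prod.mk rfl f.1 f.2
          map_add' := fun f g => Prod.ext (by ext; simp) (by ext; simp)
          map_smul' := fun c f => Prod.ext (by ext; simp) (by ext; simp)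
          left_inv := fun f => by ext <;> simp
          right_inv := fun f => Prod.ext (by ext; simp) (by ext; simp) })
  let eOne : P ≃ₗ[R] (Unit →₀ P) := (Finsupp.LinearEquiv.finsuppUnique R P Unit).symm
  let eP : (P × (ℕ →₀ P)) ≃ₗ[R] (ℕ →₀ P) :=
    ((eOne.prodCongr (LinearEquiv.refl R _)).trans (Finsupp.sumFinsuppLEquivProdFinsupp R).symm).trans
      (Finsupp.domLCongr ((Equiv.sumComm _ _).trans Equiv.natSumPUnitEquivNat))
  exact ⟨(((LinearEquiv.refl R P).prodCongr eF).trans (LinearEquiv.prodAssoc R P _ _).symm).trans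
    ((eP.prodCongr (LinearEquiv.refl R _)).trans eF.symm)⟩

end Groth.Agent.Bass3
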