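import Mathlib.RingTheory.Nakayama
import Mathlib.Algebra.BigOperators.Fin
import Mathlib.RingTheory.TensorProduct.Basic
import Mathlib.RingTheory.LocalRing.MaximalIdeal.Basic
import Mathlib.RingTheory.OrzechProperty
import Mathlib.RingTheory.Localization.BaseChange
import Mathlib.RingTheory.Localization.AtPrime.Basic
import Groth.Agent.Bass3.Summand
import Groth.Prelude.Def_Found

set_option autoImplicit false
universe u v

namespace Groth.Agent.Bass3

section Local

variable {A : Type u} [CommRing A] [IsLocalRing A] {P : Type v} [AddCommGroup P] [Module A P]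

open IsLocalRing

lemma eq_zero_of_idempotent_of_mem_smul [Module.Projective A P] (E : P →ₗ[A] P)
    (hE : ∀ x, E (E x) = E x) (hm : ∀ x, E x ∈ maximalIdeal A • (⊤ : Submodule A P)) (x : P) :
    E x = 0 := by
  classical
  obtain ⟨i, hi⟩ := Module.projective_def'.mp ‹Module.Projective A P›
  set y := E x
  have hcoord : ∀ a, ∀ z ∈ maximalIdeal A • (⊤ : Submodule A P), i z a ∈ maximalIdeal A := by
    intro a z hz
    refine Submodule.smul_induction_on hz (fun r hr w _ => ?_) (fun u w hu hw => ?_)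
    · simpa using (maximalIdeal A).mul_mem_right (i w a) hr
    · simpa using add_mem hu hw
  let I : Ideal A := Ideal.span ((i y).support.image (i y) : Set A)
  have hmem : ∀ a, i y a ∈ I := fun a => by
    by_cases h : a ∈ (i y).support
    · exact Ideal.subset_span (Finset.mem_image_of_mem _ h)
    · rw [Finsupp.notMem_support_iff.mp h]; exact I.zero_mem
  have hy : ∀ a, i y a = ∑ b ∈ (i y).support, i y b * i (E b) a := by
    intro a
    have h1 := LinearMap.congr_fun hi y
    rw [LinearMap.comp_apply, Finsupp.linearCombination_apply, LinearMap.id_apply] at h1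
    conv_lhs => rw [show y = E y from (hE x).symm, ← h1]
    simp [Finsupp.sum, map_sum]
  have hI : I ≤ maximalIdeal A • I := by
    refine Ideal.span_le.mpr ?_
    intro c hc
    obtain ⟨a, _, rfl⟩ := Finset.mem_image.mp hc
    rw [hy a, SetLike.mem_coe]
    refine Submodule.sum_mem _ fun b _ => ?_
    rw [mul_comm, smul_eq_mul]
    exact Ideal.mul_mem_mul (hcoord a _ (hm b)) (hmem b)
  have hbot : I = ⊥ := Submodule.eq_bot_of_le_smul_of_le_jacobson_bot (maximalIdeal A) I
    (Submodule.fg_span (Finset.finite_toSet _)) hI (maximalIdeal_le_jacobson _)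
  have hzero : i y = 0 := Finsupp.ext fun a => by simpa [hbot] using hmem a
  have h1 := LinearMap.congr_fun hi y
  rw [LinearMap.comp_apply, hzero, map_zero] at h1
  exact h1.symm

lemma exists_shrink {k : ℕ} (lam : (Fin (k + 1) → A) →ₗ[A] P)
    (hlam : LinearMap.range lam ⊔ maximalIdeal A • ⊤ = ⊤) (c : Fin (k + 1) → A)
    (hc : lam c ∈ maximalIdeal A • (⊤ : Submodule A P)) (j : Fin (k + 1)) (hu : IsUnit (c j)) :
    ∃ lam' : (Fin k → A) →ₗ[A] P, LinearMap.range lam' ⊔ maximalIdeal A • ⊤ = ⊤ := by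
  obtain ⟨w, hw⟩ := hu.exists_left_inv
  let v : Fin (k + 1) → P := fun l => lam (Pi.single l 1)
  have hlamv : ∀ d, lam d = ∑ l, d l • v l := fun d => by
    conv_lhs => rw [pi_eq_sum_univ' d]
    simp only [map_sum, map_smul, v]
  refine ⟨Fintype.linearCombination A fun t => v (j.succAbove t), ?_⟩
  refine top_le_iff.mp (hlam.ge.trans (sup_le ?_ le_sup_right))
  have hne : ∀ t, v (j.succAbove t) ∈
      LinearMap.range (Fintype.linearCombination A fun t => v (j.succAbove t)) := fun t =>
    ⟨Pi.single t 1, by rw [Fintype.linearCombination_apply_single, one_smul]⟩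
  have hv : v j ∈ LinearMap.range (Fintype.linearCombination A fun t => v (j.succAbove t))
      ⊔ maximalIdeal A • ⊤ := by
    have h := hlamv c
    rw [Fin.sum_univ_succAbove _ j] at h
    have : v j = w • lam c - w • ∑ t, c (j.succAbove t) • v (j.succAbove t) := by
      rw [h, smul_add, smul_smul, hw, one_smul, add_sub_cancel_right]
    rw [this]
    exact sub_mem (Submodule.mem_sup_right (Submodule.smul_mem _ _ hc))
      (Submodule.mem_sup_left (Submodule.smul_mem _ _
        (Submodule.sum_mem _ fun t _ => Submodule.smul_mem _ _ (hne t))))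
  rintro _ ⟨d, rfl⟩
  rw [hlamv, Fin.sum_univ_succAbove _ j]
  exact add_mem (Submodule.smul_mem _ _ hv) (Submodule.mem_sup_left
    (Submodule.sum_mem _ fun t _ => Submodule.smul_mem _ _ (hne t)))

lemma finite_of_projective_of_fg_sup [Module.Projective A P] (L : Submodule A P) (hL : L.FG)
    (h : L ⊔ maximalIdeal A • ⊤ = ⊤) : Module.Finite A P := by
  classical
  have hex : ∃ N, ∃ lam : (Fin N → A) →ₗ[A] P, LinearMap.range lam ⊔ maximalIdeal A • ⊤ = ⊤ := by
    have : Module.Finite A L := Module.Finite.iff_fg.mpr hL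
    obtain ⟨N, π, hπ⟩ := Module.Finite.exists_fin' A L
    refine ⟨N, L.subtype ∘ₗ π, ?_⟩
    rwa [LinearMap.range_comp, LinearMap.range_eq_top.mpr hπ, Submodule.map_top, Submodule.range_subtype]
  obtain ⟨N, ⟨lam, hlam⟩, hmin⟩ : ∃ N, (∃ lam : (Fin N → A) →ₗ[A] P,
      LinearMap.range lam ⊔ maximalIdeal A • ⊤ = ⊤) ∧ ∀ k, k < N →
      ¬ ∃ lam : (Fin k → A) →ₗ[A] P, LinearMap.range lam ⊔ maximalIdeal A • ⊤ = ⊤ :=
    ⟨Nat.find hex, Nat.find_spec hex, fun k => Nat.find_min hex⟩
  clear hex
  have hind : ∀ c, lam c ∈ maximalIdeal A • (⊤ : Submodule A P) → ∀ j, c j ∈ maximalIdeal A := by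
    intro c hc j
    by_contra hj
    obtain ⟨k, rfl⟩ : ∃ k, N = k + 1 := ⟨N - 1, by have := j.pos; omega⟩
    exact hmin k (Nat.lt_succ_self k) (exists_shrink lam hlam c hc j (notMem_maximalIdeal.mp hj))
  let W := maximalIdeal A • (⊤ : Submodule A P)
  have hsurj : Function.Surjective (W.mkQ ∘ₗ lam) := by
    intro z
    obtain ⟨x, rfl⟩ := Submodule.Quotient.mk_surjective _ z
    obtain ⟨_, ⟨c, rfl⟩, w, hw, hx⟩ := Submodule.mem_sup.mp (hlam.ge (Submodule.mem_top : x ∈ ⊤))
    refine ⟨c, ?_⟩
    rw [LinearMap.comp_apply, Submodule.mkQ_apply, Submodule.Quotient.eq, ← hx]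
    simpa using W.neg_mem hw
  obtain ⟨η, hη⟩ := Module.projective_lifting_property (W.mkQ ∘ₗ lam) W.mkQ hsurj
  have hηsub : ∀ x, x - lam (η x) ∈ W := fun x => by
    rw [← Submodule.Quotient.eq]
    exact (LinearMap.congr_fun hη x).symm
  have hsur : Function.Surjective (η ∘ₗ lam) := by
    rw [← LinearMap.range_eq_top, eq_top_iff]
    refine Submodule.le_of_le_smul_of_le_jacobson_bot Module.Finite.fg_top
      (maximalIdeal_le_jacobson _) fun c _ => ?_
    rw [← add_sub_cancel (η (lam c)) c]
    refine Submodule.add_mem_sup ⟨c, rfl⟩ ?_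
    have hd := hind (c - η (lam c)) (by rw [map_sub]; exact hηsub (lam c))
    rw [pi_eq_sum_univ' (c - η (lam c))]
    exact Submodule.sum_mem _ fun t _ => Submodule.smul_mem_smul (hd t) Submodule.mem_top
  let e := LinearEquiv.ofBijective (η ∘ₗ lam)
    ⟨OrzechProperty.injective_of_surjective_endomorphism _ hsur, hsur⟩
  let ρ := e.symm.toLinearMap ∘ₗ η
  have hρ : ∀ c, ρ (lam c) = c := fun c => e.symm_apply_apply c
  let E : P →ₗ[A] P := LinearMap.id - lam ∘ₗ ρ
  have hE : ∀ x, E (E x) = E x := fun x => by simp [E, hρ]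
  have hm : ∀ x, E x ∈ W := by
    intro x
    have h1 := hηsub (E x)
    have h2 : η (E x) = 0 := by
      have h3 : e.symm (η (E x)) = 0 := by
        show ρ (E x) = 0
        simp [E, hρ]
      exact e.symm.map_eq_zero_iff.mp h3
    rwa [h2, map_zero, sub_zero] at h1
  refine Module.Finite.of_surjective lam fun x => ⟨ρ x, ?_⟩
  have := eq_zero_of_idempotent_of_mem_smul E hE hm x
  exact (sub_eq_zero.mp this).symm

end Local

variable {R : Type u} [CommRing R] {P : Type v} [AddCommGroup P] [Module R P]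

lemma infRank_of_not_finite [Module.Projective R P]
    (hP : ∀ (m : Ideal R) [m.IsMaximal],
      ¬ Module.Finite (Localization.AtPrime m) (LocalizedModule m.primeCompl P)) : InfRank R P := by
  intro m hm L hL e
  refine hP m ?_
  let A := Localization.AtPrime m
  let f := LocalizedModule.mkLinearMap m.primeCompl P
  have : Module.Projective A (LocalizedModule m.primeCompl P) :=
    Module.Projective.of_equiv (LocalizedModule.equivTensorProduct m.primeCompl P).symm
  obtain ⟨t, ht⟩ := hL
  refine finite_of_projective_of_fg_sup (Submodule.span A (f '' t))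
    (Submodule.fg_span (t.finite_toSet.image f)) ?_
  have him : ∀ x : P, f x ∈ Submodule.span A (f '' t) ⊔ IsLocalRing.maximalIdeal A • ⊤ := by
    intro x
    obtain ⟨l, hl, w, hw, rfl⟩ := Submodule.mem_sup.mp (e.ge (Submodule.mem_top : x ∈ ⊤))
    rw [map_add]
    refine Submodule.add_mem_sup ?_ ?_
    · rw [← ht] at hl
      have : f l ∈ (Submodule.span R (t : Set P)).map f := Submodule.mem_map_of_mem hl
      rw [Submodule.map_span] at this
      exact Submodule.span_le_restrictScalars R A _ this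
    · refine Submodule.smul_induction_on hw (fun r hr y _ => ?_) fun a b ha hb => ?_
      · rw [map_smul, ← algebraMap_smul A r]
        refine Submodule.smul_mem_smul ?_ Submodule.mem_top
        exact (IsLocalization.AtPrime.to_map_mem_maximal_iff A m r).mpr hr
      · rw [map_add]; exact add_mem ha hb
  rw [eq_top_iff]
  intro y _
  obtain ⟨⟨x, s⟩, hxs⟩ := IsLocalizedModule.surj m.primeCompl f y
  obtain ⟨w, hw⟩ := (IsLocalization.map_units A s).exists_left_inv
  have : y = w • f x := by
    rw [← hxs, Submonoid.smul_def, ← algebraMap_smul A (s : R), smul_smul, hw, one_smul]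
  rw [this]
  exact Submodule.smul_mem _ _ (him x)

lemma InfRank.of_equiv {Q : Type v} [AddCommGroup Q] [Module R Q] (e : P ≃ₗ[R] Q)
    (h : InfRank R P) : InfRank R Q := by
  intro m hm L hL he
  refine h m hm (L.map e.symm.toLinearMap) (hL.map _) ?_
  have := congrArg (Submodule.map e.symm.toLinearMap) he
  rwa [Submodule.map_sup, Submodule.map_smul'', Submodule.map_top, LinearEquiv.range] at this

/-- One step of the construction. -/
lemma step [IsNoetherianRing (R ⧸ (⊥ : Ideal R).jacobson)] [Module.Projective R P]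
    (p : P →ₗ[R] P) (hp : ∀ x, p (p x) = p x) (hrank : InfRank R (LinearMap.range p)) (z : P) :
    ∃ (n : ℕ) (ρ : P →ₗ[R] (Fin n → R)) (τ : (Fin n → R) →ₗ[R] P),
      (∀ c, ρ (τ c) = c) ∧ (∀ x, ρ (p x) = ρ x) ∧ (∀ c, p (τ c) = τ c) ∧ τ (ρ z) = p z ∧
      InfRank R (LinearMap.range (p - τ ∘ₗ ρ)) := by
  have : Module.Projective R (LinearMap.range p) :=
    Module.Projective.of_split (LinearMap.range p).subtype p.rangeRestrict
      (LinearMap.ext fun ⟨x, y, hy⟩ => Subtype.ext (by simp [← hy, hp]))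
  obtain ⟨n, ρ₀, τ₀, h₀, c₀, hc₀⟩ := inFreeSummand hrank (p.rangeRestrict z)
  let τ := (LinearMap.range p).subtype ∘ₗ τ₀
  have hfix : ∀ y : LinearMap.range p, p.rangeRestrict y = y := by
    rintro ⟨x, y, rfl⟩; exact Subtype.ext (hp y)
  refine ⟨n, ρ₀ ∘ₗ p.rangeRestrict, τ, fun c => ?_, fun x => ?_, fun c => ?_, ?_, ?_⟩
  · show ρ₀ (p.rangeRestrict (τ₀ c : P)) = c
    rw [hfix, h₀]
  · simp only [LinearMap.comp_apply]
    exact congrArg ρ₀ (Subtype.ext (hp x))
  · exact congrArg Subtype.val (hfix (τ₀ c))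
  · show ((τ₀ (ρ₀ (p.rangeRestrict z)) : LinearMap.range p) : P) = p z
    rw [← hc₀, h₀, hc₀]
    rfl
  · have hrange : LinearMap.range (p - τ ∘ₗ ρ₀ ∘ₗ p.rangeRestrict) =
        (LinearMap.ker ρ₀).map (LinearMap.range p).subtype := by
      apply le_antisymm
      · rintro _ ⟨x, rfl⟩
        exact ⟨p.rangeRestrict x - τ₀ (ρ₀ (p.rangeRestrict x)), by simp [h₀], by simp [τ]⟩
      · rintro _ ⟨y, hy, rfl⟩
        refine ⟨y, ?_⟩
        simp only [τ, LinearMap.sub_apply, LinearMap.comp_apply, Submodule.coe_subtype, hfix y,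
          LinearMap.mem_ker.mp hy, map_zero]
        simpa using congrArg Subtype.val (hfix y)
    rw [hrange]
    exact InfRank.of_equiv (Submodule.equivMapOfInjective _ (Submodule.injective_subtype _) _)
      (InfRank.ker_of_section hrank ρ₀ τ₀ h₀)

lemma free_of_countablyGenerated [IsNoetherianRing (R ⧸ (⊥ : Ideal R).jacobson)]
    [Module.Projective R P] (hP : InfRank R P)
    (hc : ∃ s : Set P, s.Countable ∧ Submodule.span R s = ⊤) : Module.Free R P := by
  classical
  obtain ⟨s, hs, hspan⟩ := hc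
  obtain ⟨g, hg⟩ := (hs.insert 0).exists_eq_range ⟨0, Set.mem_insert _ _⟩
  let St := {p : P →ₗ[R] P // (∀ x, p (p x) = p x) ∧ InfRank R (LinearMap.range p)}
  choose k ρ τ h1 h2 h3 h4 h5 using fun (n : ℕ) (p : St) => step p.1 p.2.1 p.2.2 (g n)
  let next : ℕ → St → St := fun n p => ⟨p.1 - τ n p ∘ₗ ρ n p, fun x => by
    simp [h1, h2, h3, p.2.1], h5 n p⟩
  let p₀ : St := ⟨LinearMap.id, fun x => rfl,
    InfRank.of_equiv ((LinearEquiv.ofTop _ LinearMap.range_id).symm) hP⟩
  let p : ℕ → St := fun n => n.rec p₀ next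
  let ρ' : ∀ n, P →ₗ[R] (Fin (k n (p n)) → R) := fun n => ρ n (p n)
  let τ' : ∀ n, (Fin (k n (p n)) → R) →ₗ[R] P := fun n => τ n (p n)
  have hsucc : ∀ n x, (p (n + 1)).1 x = (p n).1 x - τ' n (ρ' n x) := fun n x => rfl
  have hlt : ∀ m n, m < n → (∀ c, (p n).1 (τ' m c) = 0) ∧ (∀ x, ρ' m ((p n).1 x) = 0) := by
    intro m n hmn
    induction n, hmn using Nat.le_induction with
    | base =>
      refine ⟨fun c => ?_, fun x => ?_⟩
      · rw [hsucc]; simp [ρ', τ', h1, h3]
      · rw [hsucc]; simp [ρ', τ', h1, h2]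
    | succ n hmn ih =>
      refine ⟨fun c => ?_, fun x => ?_⟩
      · rw [hsucc, ih.1]
        have : ρ' n (τ' m c) = 0 := by
          show ρ n (p n) _ = 0
          rw [← h2, ih.1, map_zero]
        rw [this, map_zero, sub_zero]
      · rw [hsucc, map_sub, ih.2, zero_sub, neg_eq_zero]
        have := ih.2 (τ' n (ρ' n x))
        rwa [show (p n).1 (τ' n (ρ' n x)) = τ' n (ρ' n x) from h3 n (p n) _] at this
  have horth : ∀ m n, m ≠ n → ∀ c, ρ' m (τ' n c) = 0 := by
    intro m n hmn c
    rcases lt_or_gt_of_ne hmn with h | h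
    · rw [show τ' n c = (p n).1 (τ' n c) from (h3 n (p n) c).symm]
      exact (hlt m n h).2 _
    · show ρ m (p m) _ = 0
      rw [← h2, (hlt n m h).1, map_zero]
  let Ψ : ((Σ n, Fin (k n (p n))) →₀ R) →ₗ[R] P :=
    Finsupp.linearCombination R fun j => τ' j.1 (Pi.single j.2 1)
  have hτmem : ∀ n c, τ' n c ∈ LinearMap.range Ψ := by
    intro n c
    rw [pi_eq_sum_univ' c, map_sum]
    refine Submodule.sum_mem _ fun i _ => ?_
    rw [map_smul]
    exact Submodule.smul_mem _ _ ⟨Finsupp.single ⟨n, i⟩ 1, by simp [Ψ]⟩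
  have hsurj : Function.Surjective Ψ := by
    rw [← LinearMap.range_eq_top, eq_top_iff, ← hspan, Submodule.span_le]
    intro x hx
    obtain ⟨n, rfl⟩ : x ∈ Set.range g := hg ▸ Set.mem_insert_of_mem _ hx
    have key : ∀ j, g n - (p j).1 (g n) ∈ LinearMap.range Ψ := by
      intro j
      induction j with
      | zero => show g n - g n ∈ _; simp
      | succ j ih =>
        rw [hsucc, sub_sub_eq_add_sub, add_sub_right_comm]
        exact add_mem ih (hτmem _ _)
    have h0 : (p (n + 1)).1 (g n) = 0 := by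
      rw [hsucc]; exact sub_eq_zero.mpr (h4 n (p n)).symm
    simpa [h0] using key (n + 1)
  have hinj : Function.Injective Ψ := by
    refine (injective_iff_map_eq_zero _).mpr fun v hv => Finsupp.ext ?_
    rintro ⟨n, i⟩
    have := congrArg (fun y => ρ' n y i) hv
    simp only [Ψ, Finsupp.linearCombination_apply, map_finsuppSum, map_zero, Pi.zero_apply] at this
    rw [Finsupp.sum, Finset.sum_apply, Finset.sum_eq_single (⟨n, i⟩ : Σ n, Fin (k n (p n)))] at this
    · simpa [ρ', τ', h1] using this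
    · rintro ⟨m, l⟩ _ hne
      rw [map_smul, Pi.smul_apply]
      by_cases hm : m = n
      · subst hm
        have hli : i ≠ l := fun h => hne (by rw [h])
        simp [ρ', τ', h1, Pi.single_eq_of_ne hli]
      · simp [horth n m (Ne.symm hm)]
    · intro h; simp [Finsupp.notMem_support_iff.mp h]
  exact Module.Free.of_equiv (LinearEquiv.ofBijective Ψ ⟨hinj, hsurj⟩)

end Groth.Agent.Bass3
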